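import Mathlib
import Cfsg.Agent.H493.NCRow.OutE6
import Cfsg.Agent.H73.OI.InnerAbs

/-!
# The commutators of automorphisms of the exceptional Chevalley groups (S3325, helper73)
-/

set_option autoImplicit false

namespace Cfsg.Agent.H73.OI

open Subgroup Cfsg Cfsg.Lie
open Cfsg.Agent.ChevalleyStructure Cfsg.Agent.ChevalleyStructure.Elts
open Cfsg.Agent.H79.OutChev Cfsg.Agent.H79.FieldAuts Cfsg.Agent.H79.DiagAuts
open Cfsg.Agent.H442.OutCyc Cfsg.Agent.H493.NCRow
open Cfsg.Agent.ChevalleyStructure.NConj Cfsg.Agent.ChevalleyStructure.BNChev Cfsg.Agent.S1042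
  Cfsg.Agent.Schreier.ChevLocal

section

variable {D : ChevalleyDatum} (hD : InList D) (F : Type) [Field F]

theorem card_diagSub_dvd [Finite F] : Nat.card (diagSub hD F) ∣ (Nat.card F - 1) ^ D.rank := by
  have h1 : ∀ c : Fin D.rank → Fˣ, ∃ α : MulAut ↥(D.group F), IsD hD c α := (diagFacts hD F).exists_α
  choose g hg using h1
  let f : (Fin D.rank → Fˣ) →* diagSub hD F := MonoidHom.mk' (fun c => ⟨g c, c, hg c⟩) fun a b =>
    Subtype.ext ((hg (a * b)).unique ((hg a).mul (hg b)))
  have h2 : Function.Surjective f := by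
    rintro ⟨α, c, hc⟩
    exact ⟨c, Subtype.ext ((hg c).unique hc)⟩
  have h3 := Subgroup.card_dvd_of_surjective f h2
  rwa [Nat.card_fun, Nat.card_units, Nat.card_fin] at h3

theorem card_DB_mul_dvd [Finite F] :
    Nat.card (DB hD F) * Nat.card (D.diagonalSubgroup F) ∣ (Nat.card F - 1) ^ D.rank := by
  refine dvd_trans ?_ (card_diagSub_dvd hD F)
  have h0 : Nat.card (D.diagonalSubgroup F) = Nat.card (HH D F) :=
    (Nat.card_congr (Subgroup.subgroupOfEquivOfLe (diagonal_le_group hD F)).toEquiv).symm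
  have h1 : Nat.card (HH D F) ∣ Nat.card ((Inn ↥(D.group F)).subgroupOf (diagSub hD F)) := by
    let f : HH D F →* (Inn ↥(D.group F)).subgroupOf (diagSub hD F) := MonoidHom.mk' (fun h : HH D F =>
      (⟨⟨MulAut.conj (h : ↥(D.group F)), conj_mem_diagSub hD F h.2⟩, ⟨h, rfl⟩⟩ :
        (Inn ↥(D.group F)).subgroupOf (diagSub hD F))) fun a b => by
      apply Subtype.ext
      apply Subtype.ext
      exact map_mul MulAut.conj (a : ↥(D.group F)) (b : ↥(D.group F))
    refine Subgroup.card_dvd_of_injective f ?_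
    intro a b hab
    have h2 : MulAut.conj (a : ↥(D.group F)) = MulAut.conj (b : ↥(D.group F)) :=
      congrArg (fun x : (Inn ↥(D.group F)).subgroupOf (diagSub hD F) => ((x : ↥(diagSub hD F)) : MulAut ↥(D.group F))) hab
    exact Subtype.ext (H70.OutCount.conj_injective hD h2)
  have h2 : Nat.card (DB hD F) = ((Inn ↥(D.group F)).subgroupOf (diagSub hD F)).index := by
    have h3 := Subgroup.relIndex_ker (diagSub hD F) (QuotientGroup.mk' (Inn ↥(D.group F)))
    rw [QuotientGroup.ker_mk'] at h3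
    exact h3.symm
  rw [h0, h2, mul_comm, ← Subgroup.card_mul_index ((Inn ↥(D.group F)).subgroupOf (diagSub hD F))]
  exact mul_dvd_mul_right h1 _

theorem card_DB_dvd [Finite F] {d : ℕ} (h : d * Nat.card (D.diagonalSubgroup F) = (Nat.card F - 1) ^ D.rank) :
    Nat.card (DB hD F) ∣ d := by
  have h1 := card_DB_mul_dvd hD F
  rw [← h] at h1
  exact Nat.dvd_of_mul_dvd_mul_right Nat.card_pos h1

include hD in
theorem commOdd_of_DB [Finite F] (hD' : D ∈ [chevG2, chevB2, chevF4, chevE6, chevE7, chevE8]) {d : ℕ} (hd : Odd d)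
    (h : d * Nat.card (D.diagonalSubgroup F) = (Nat.card F - 1) ^ D.rank) : CommOdd ↥(D.group F) := by
  intro a b
  have h1 := card_DB_dvd hD F h
  refine ⟨Nat.card (DB hD F), Odd.of_dvd_nat hd h1, ?_⟩
  refine (QuotientGroup.eq_one_iff (N := Inn ↥(D.group F)) _).1 ?_
  have h2 : (QuotientGroup.mk' (Inn ↥(D.group F))) (a * b * a⁻¹ * b⁻¹) ∈ DB hD F := by
    refine commutator_le_DB hD hD' F ?_
    rw [map_mul, map_mul, map_mul, map_inv, map_inv]
    exact commutator_mem_commutator (mem_top _) (mem_top _)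
  have h3 : (QuotientGroup.mk' (Inn ↥(D.group F))) ((a * b * a⁻¹ * b⁻¹) ^ Nat.card (DB hD F)) = 1 := by
    rw [map_pow]
    have h4 : (⟨_, h2⟩ : ↥(DB hD F)) ^ Nat.card (DB hD F) = 1 := pow_card_eq_one'
    exact congrArg Subtype.val h4
  exact h3

end

/-- an extension of a group of order at most two by a cyclic group is commutative -/
theorem comm_of_two {O : Type*} [Group O] (D : Subgroup O) [hDn : D.Normal] (hD : Nat.card D ∣ 2)
    (hC : IsCyclic (O ⧸ D)) (a b : O) : a * b = b * a := by
  have hfin : Finite D := Nat.finite_of_card_ne_zero (fun h0 => by rw [h0] at hD; omega)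
  have h0 := Nat.le_of_dvd (by norm_num) hD
  refine commutative_of_cyclic_center_quotient (QuotientGroup.mk' D) ?_ a b
  rw [QuotientGroup.ker_mk']
  intro x hx
  rw [mem_center_iff]
  intro g
  by_cases hx1 : x = 1
  · rw [hx1, mul_one, one_mul]
  have h2 : g * x * g⁻¹ ∈ D := hDn.conj_mem _ hx _
  have h3 : g * x * g⁻¹ ≠ 1 := by
    intro h
    apply hx1
    have : x = g⁻¹ * (g * x * g⁻¹) * g := by group
    rw [this, h]; group
  have h4 : g * x * g⁻¹ = x := by
    by_contra hne
    have h6 : 3 ≤ Nat.card D := by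
      classical
      have h7 : ({⟨1, one_mem D⟩, ⟨x, hx⟩, ⟨_, h2⟩} : Finset D).card = 3 := by
        rw [Finset.card_eq_three]
        refine ⟨_, _, _, ?_, ?_, ?_, rfl⟩
        · intro h; exact hx1 (congrArg Subtype.val h).symm
        · intro h; exact h3 (congrArg Subtype.val h).symm
        · intro h; exact hne (congrArg Subtype.val h).symm
      have : Fintype D := Fintype.ofFinite D
      rw [← h7, Nat.card_eq_fintype_card]
      exact Finset.card_le_univ _
    omega
  exact mul_inv_eq_iff_eq_mul.1 h4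

/-- `E₇` -/
theorem commOdd_E7 (F : Type) [Field F] [Fintype F] : CommOdd ↥(chevE7.group F) := by
  have hD := H70.OutE.inList_E7
  have hN : (DB hD F).Normal := (structure_out hD F).1
  have hcyc : IsCyclic (Out ↥(chevE7.group F) ⧸ DB hD F) :=
    isCyclic_quotient hD F fun π hπ => H79.DiagSymm.eq_one_E7 hπ
  have hcard : Nat.card (DB hD F) ∣ 2 := by
    have h1 := S1035.result (F := F) (q := Nat.card F) (Nat.card_eq_fintype_card (α := F)).symm
      (chevE7, Nat.gcd 2 (Nat.card F - 1)) (by simp)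
    exact (card_DB_dvd hD F h1).trans (Nat.gcd_dvd_left _ _)
  intro a b
  refine ⟨1, odd_one, ?_⟩
  rw [pow_one]
  refine (QuotientGroup.eq_one_iff (N := Inn ↥(chevE7.group F)) _).1 ?_
  have h1 := comm_of_two (DB hD F) hcard hcyc ((QuotientGroup.mk' (Inn ↥(chevE7.group F))) a)
    ((QuotientGroup.mk' (Inn ↥(chevE7.group F))) b)
  have h2 : (QuotientGroup.mk' (Inn ↥(chevE7.group F))) (a * b * a⁻¹ * b⁻¹) = 1 := by
    rw [map_mul, map_mul, map_mul, map_inv, map_inv, h1]
    group
  exact h2

theorem commOdd_E6 (F : Type) [Field F] [Fintype F] : CommOdd ↥(chevE6.group F) := by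
  refine commOdd_of_DB H70.OutE.inList_E6 F (by simp) (d := Nat.gcd 3 (Nat.card F - 1)) ?_ ?_
  · exact Odd.of_dvd_nat (by decide : Odd 3) (Nat.gcd_dvd_left _ _)
  · exact S1035.result (F := F) (q := Nat.card F) (Nat.card_eq_fintype_card (α := F)).symm
      (chevE6, Nat.gcd 3 (Nat.card F - 1)) (by simp)

theorem commOdd_G2 (F : Type) [Field F] [Fintype F] : CommOdd ↥(chevG2.group F) := by
  refine commOdd_of_DB (by simp) F (by simp) (d := 1) odd_one ?_
  exact S1035.result (F := F) (q := Nat.card F) (Nat.card_eq_fintype_card (α := F)).symm (chevG2, 1) (by simp)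

theorem commOdd_F4 (F : Type) [Field F] [Fintype F] : CommOdd ↥(chevF4.group F) := by
  refine commOdd_of_DB (by simp) F (by simp) (d := 1) odd_one ?_
  exact S1035.result (F := F) (q := Nat.card F) (Nat.card_eq_fintype_card (α := F)).symm (chevF4, 1) (by simp)

theorem commOdd_E8 (F : Type) [Field F] [Fintype F] : CommOdd ↥(chevE8.group F) := by
  refine commOdd_of_DB (by simp) F (by simp) (d := 1) odd_one ?_
  exact S1035.result (F := F) (q := Nat.card F) (Nat.card_eq_fintype_card (α := F)).symm (chevE8, 1) (by simp)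

end Cfsg.Agent.H73.OI
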