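import Mathlib
import Cfsg.Agent.H557.LrIso

/-!
# Long root `SL₂` subgroups and the components of the centralizer of an involution (S3325, helper73)

`GoodC p C` : every component of `C` is an image of `SL₂`, or is not centralised by an image `A ≤ layer C` of `SL₂`
with central involution `z`, `C(z) ≤ N(A)`. (From `H557.LrTor`.)
-/

set_option autoImplicit false
set_option linter.unusedSectionVars false

namespace Cfsg.Agent.H73.OI

open CoxeterSystem Cfsg.Agent.ChevalleyStructure.CoxeterGeom Cfsg.Agent.Tits.Roots Cfsg.Agent.Tits.Core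
  Cfsg.Agent.Tits.RootComb Cfsg.Agent.Tits.Exchange Cfsg.Agent.Nodes.Reps Cfsg.Agent.Nodes.BNOf
  Cfsg.Agent.Nodes.StabComb Cfsg.Agent.Nodes.Bruhat Cfsg.Agent.Nodes.RGDLib Cfsg.Agent.H557.LrAbs
  Cfsg.Agent.H557.LrSgn Cfsg.Agent.H557.LrTor Cfsg.Agent.H557.LrOrb Cfsg.Agent.H557.LrIso
open Cfsg Cfsg.Agent.SignalizersComponents.Components
open scoped commutatorElement

/-- an image of `SL₂` with central involution `z`, `C(z) ≤ N(A)` -/
structure SLc {Y : Type*} [Group Y] (p : ℕ) (A : Subgroup Y) (z : Y) : Prop where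
  sl : IsSL p A z
  cent : Subgroup.centralizer {z} ≤ Subgroup.normalizer (A : Set Y)
  ne : z ≠ 1

/-- see the header -/
def GoodC {Y : Type*} [Group Y] (p : ℕ) (C : Subgroup Y) : Prop :=
  PLayer C → ∀ L : Subgroup Y, L ≤ C → IsComponent (L.subgroupOf C) → (∃ z, IsSL p L z) ∨
    ∃ A z, SLc p A z ∧ A ≤ C ∧ A.subgroupOf C ≤ layer ↥C ∧ ¬ A ≤ Subgroup.centralizer (L : Set Y)

section Transport

variable {Y Y' : Type*} [Group Y] [Group Y'] {p : ℕ}

theorem IsSL.map {A : Subgroup Y} {z : Y} (h : IsSL p A z) (e : Y →* Y') : IsSL p (A.map e) (e z) := by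
  obtain ⟨F, i1, i2, i3, f, rfl, rfl⟩ := h
  exact ⟨F, i1, i2, i3, e.comp f, by rw [MonoidHom.range_comp], rfl⟩

theorem mem_map_equiv' (e : Y ≃* Y') {A : Subgroup Y} {x : Y} : e x ∈ A.map e.toMonoidHom ↔ x ∈ A := by
  constructor
  · rintro ⟨y, hy, h⟩
    have : y = x := e.injective h
    rwa [← this]
  · intro h
    exact ⟨x, h, rfl⟩

theorem cent_map (e : Y ≃* Y') (A : Subgroup Y) {B : Subgroup Y} (h : B ≤ Subgroup.centralizer (A : Set Y)) :
    B.map e.toMonoidHom ≤ Subgroup.centralizer ((A.map e.toMonoidHom : Subgroup Y') : Set Y') := by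
  rintro _ ⟨b, hb, rfl⟩
  rw [Subgroup.mem_centralizer_iff]
  rintro _ ⟨a, ha, rfl⟩
  show e a * e b = e b * e a
  rw [← map_mul, ← map_mul, Subgroup.mem_centralizer_iff.1 (h hb) a ha]

theorem map_symm_map (e : Y ≃* Y') (A : Subgroup Y') : (A.map e.symm.toMonoidHom).map e.toMonoidHom = A := by
  rw [Subgroup.map_map]
  have : e.toMonoidHom.comp e.symm.toMonoidHom = MonoidHom.id Y' := by ext x; simp
  rw [this, Subgroup.map_id]

theorem map_map_symm (e : Y ≃* Y') (A : Subgroup Y) : (A.map e.toMonoidHom).map e.symm.toMonoidHom = A := by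
  rw [Subgroup.map_map]
  have : e.symm.toMonoidHom.comp e.toMonoidHom = MonoidHom.id Y := by ext x; simp
  rw [this, Subgroup.map_id]

theorem cent_single_map (e : Y ≃* Y') (z : Y) :
    (Subgroup.centralizer ({z} : Set Y)).map e.toMonoidHom = Subgroup.centralizer {e z} := by
  ext x
  rw [Subgroup.mem_centralizer_singleton_iff]
  constructor
  · rintro ⟨y, hy, rfl⟩
    have h := Subgroup.mem_centralizer_singleton_iff.1 hy
    show e y * e z = e z * e y
    rw [← map_mul, ← map_mul, h]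
  · intro hx
    refine ⟨e.symm x, ?_, ?_⟩
    · rw [SetLike.mem_coe, Subgroup.mem_centralizer_singleton_iff]
      apply e.injective
      rw [map_mul, map_mul, MulEquiv.apply_symm_apply, hx]
    · show e (e.symm x) = x
      simp

theorem SLc.map {A : Subgroup Y} {z : Y} (h : SLc p A z) (e : Y ≃* Y') : SLc p (A.map e.toMonoidHom) (e z) where
  sl := IsSL.map h.sl e.toMonoidHom
  cent := by
    rw [← cent_single_map]
    rintro _ ⟨x, hx, rfl⟩
    have h1 := Subgroup.mem_normalizer_iff.1 (h.cent hx)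
    refine Subgroup.mem_normalizer_iff.2 fun y => ?_
    obtain ⟨y, rfl⟩ := e.surjective y
    have e1 : e.toMonoidHom x * e y * (e.toMonoidHom x)⁻¹ = e (x * y * x⁻¹) := by
      show e x * e y * (e x)⁻¹ = _
      rw [map_mul, map_mul, map_inv]
    rw [e1, mem_map_equiv', mem_map_equiv']
    exact h1 y
  ne := by
    intro h1
    apply h.ne
    apply e.injective
    rw [h1, map_one]

/-- the restriction of an isomorphism -/
noncomputable def mpE (e : Y ≃* Y') (C : Subgroup Y) : ↥C ≃* ↥(C.map e.toMonoidHom) := e.subgroupMap C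

theorem coe_mpE (e : Y ≃* Y') (C : Subgroup Y) (x : ↥C) : ((mpE e C x : ↥(C.map e.toMonoidHom)) : Y') = e x := rfl

theorem map_sgOf (e : Y ≃* Y') (A C : Subgroup Y) :
    (A.subgroupOf C).map (mpE e C).toMonoidHom = (A.map e.toMonoidHom).subgroupOf (C.map e.toMonoidHom) := by
  ext x
  obtain ⟨y, rfl⟩ := (mpE e C).surjective x
  rw [mem_map_equiv', Subgroup.mem_subgroupOf, Subgroup.mem_subgroupOf, coe_mpE, mem_map_equiv']

theorem GoodC.map {C : Subgroup Y} (h : GoodC p C) (e : Y ≃* Y') : GoodC p (C.map e.toMonoidHom) := by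
  intro hP L hL hc
  have hP' : PLayer C := pLayer_congr (mpE e C).symm hP
  obtain ⟨L0, hL0⟩ : ∃ L0, L0 = L.map e.symm.toMonoidHom := ⟨_, rfl⟩
  have hLL : L = L0.map e.toMonoidHom := by rw [hL0, map_symm_map]
  subst hLL
  have hLC : L0 ≤ C := by
    intro x hx
    exact (mem_map_equiv' e).1 (hL ⟨x, hx, rfl⟩)
  have hc' : IsComponent (L0.subgroupOf C) := by
    rw [← map_sgOf] at hc
    have h1 := isComponent_map_equiv (mpE e C).symm hc
    rwa [map_map_symm] at h1
  rcases h hP' L0 hLC hc' with ⟨z, hz⟩ | ⟨A, z, hA, hAC, hAl, hAn⟩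
  · exact Or.inl ⟨_, IsSL.map hz e.toMonoidHom⟩
  · refine Or.inr ⟨_, _, hA.map e, Subgroup.map_mono hAC, ?_, fun h1 => hAn ?_⟩
    · rw [← map_sgOf, ← map_equiv_layer (mpE e C)]
      exact Subgroup.map_mono hAl
    · have h2 := cent_map e.symm _ h1
      rwa [map_map_symm, map_map_symm] at h2

theorem GoodC.conj {t g : Y} (h : GoodC p (Subgroup.centralizer {g * t * g⁻¹})) :
    GoodC p (Subgroup.centralizer {t}) := by
  have h1 := h.map (MulAut.conj g⁻¹)
  have h2 := cent_single_map (MulAut.conj g⁻¹) (g * t * g⁻¹)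
  have h3 : (MulAut.conj g⁻¹) (g * t * g⁻¹) = t := by
    rw [MulAut.conj_apply]; group
  rw [h3] at h2
  rwa [h2] at h1

end Transport

section RGD

variable {I W Y : Type*} [Fintype I] [DecidableEq I] [Group W] [Group Y] {M : CoxeterMatrix I}
  {cs : CoxeterSystem M W} {A : I → I → ℤ} {h : IsCartan M A} {p : ℕ} {T : Subgroup Y} {n : I → Y}
  {X : (I → ℤ) → Subgroup Y}

/-- an inverted root group is not centralised -/
theorem not_fix_of_inv [Finite W] (R : RGD cs h p T n X) (hp2 : Odd p) {ψ : (I → ℤ) →+ ZMod 2} {z : Y}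
    (hz : SgnEl cs h T X ψ z) {c : I → ℤ} (hc : IsRoot cs h c) (h0 : ψ c ≠ 0)
    (hfix : ∀ u ∈ X c, z * u = u * z) : False := by
  apply Cfsg.Agent.Nodes.Bruhat.X_ne_bot R hc
  rw [Subgroup.eq_bot_iff_forall]
  intro u hu
  have h1 := hz.inv c hc h0 u hu
  rw [hfix u hu, mul_inv_cancel_right] at h1
  obtain ⟨k, hk⟩ := R.pgrp' hc ⟨u, hu⟩
  have h6 : u ^ p ^ k = 1 := congrArg Subtype.val hk
  have hodd : Odd (orderOf u) := Odd.of_dvd_nat hp2.pow (orderOf_dvd_of_pow_eq_one h6)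
  have h7 : orderOf u ∣ 2 := orderOf_dvd_of_pow_eq_one (by rw [pow_two]; nth_rewrite 1 [h1]; exact inv_mul_cancel u)
  rcases (Nat.dvd_prime Nat.prime_two).1 h7 with h8 | h8
  · exact orderOf_eq_one_iff.1 h8
  · rw [h8] at hodd
    exact absurd hodd (by decide)

theorem sgn_ne_one [Finite W] (R : RGD cs h p T n X) (hp2 : Odd p) {ψ : (I → ℤ) →+ ZMod 2} {z : Y}
    (hz : SgnEl cs h T X ψ z) {c : I → ℤ} (hc : IsRoot cs h c) (h0 : ψ c ≠ 0) : z ≠ 1 := by
  rintro rfl
  exact not_fix_of_inv R hp2 hz hc h0 fun u _ => by rw [one_mul, mul_one]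

/-- **The irreducible case.** (After `LrTor.card_le_one`.) -/
theorem irr_good [Finite W] [Finite Y] (R : RGD cs h p T n X) (hp2 : Odd p) (hG : GG cs h T X = ⊤)
    (hTc : ∀ s ∈ T, ∀ t ∈ T, s * t = t * s) {φ : (I → ℤ) →+ ZMod 2} {t : Y} {β : Type*} {b : β → I → ℤ} {z : β → Y}
    {ψ : β → (I → ℤ) →+ ZMod 2} (ht : SgnEl cs h T X φ t) (hb : ∀ i, IsRoot cs h (b i) ∧ φ (b i) = 0)
    (hz : ∀ i, SgnEl cs h T X (ψ i) (z i)) (hzA : ∀ i, z i ∈ AA X (b i)) {i0 : β}
    (hsl : IsSL p (AA X (b i0)) (z i0))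
    (hcn : Subgroup.centralizer {z i0} ≤ Subgroup.normalizer (AA X (b i0) : Set Y))
    (hne : ∃ c, IsRoot cs h c ∧ ψ i0 c ≠ 0)
    (hcov : ∀ c, IsRoot cs h c → φ c = 0 → ∃ i, ψ i c ≠ 0)
    (hcon : ∀ i, Relation.ReflTransGen (fun i j => ψ i (b j) ≠ 0) i0 i) :
    GoodC p (Subgroup.centralizer {t}) := by
  intro hPL L0 hL0 hc0
  obtain ⟨E, hE⟩ : ∃ E, E = RGD.Sup X (ES cs h φ) := ⟨_, rfl⟩
  have hEC : E ≤ Subgroup.centralizer {t} := by rw [hE]; exact ES_le_cent R hp2 ht
  have hEp : ⁅E, E⁆ = E := by rw [hE]; exact perfect_ES R hp2 hb hz hzA hcov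
  have hEl := hPL E hEC hEp
  have hXE : ∀ c, IsRoot cs h c → φ c = 0 → X c ≤ E := fun c hc h0 => by
    rw [hE]; exact RGD.le_Sup (show c ∈ ES cs h φ from ⟨hc, h0⟩)
  have hAE : ∀ i, AA X (b i) ≤ E := fun i => sup_le (hXE _ (hb i).1 (hb i).2)
    (hXE _ (hb i).1.neg (by rw [map_neg, (hb i).2, neg_zero]))
  right
  obtain ⟨L, hL⟩ : ∃ L, L = L0.subgroupOf (Subgroup.centralizer {t}) := ⟨_, rfl⟩
  have hLm : L.map (Subgroup.centralizer ({t} : Set Y)).subtype = L0 := by rw [hL]; exact map_sub hL0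
  rw [← hL] at hc0
  obtain ⟨c0, hc1, hc2⟩ := hne
  refine ⟨AA X (b i0), z i0, ⟨hsl, hcn, sgn_ne_one R hp2 (hz i0) hc1 hc2⟩, le_trans (hAE i0) hEC, ?_, ?_⟩
  · refine le_trans ?_ hEl
    intro x hx
    rw [Subgroup.mem_subgroupOf] at hx ⊢
    exact hAE i0 hx
  · intro hcon1
    rw [← hLm] at hcon1
    have hstep : ∀ i c, IsRoot cs h c → φ c = 0 → ψ i c ≠ 0 →
        z i ∈ Subgroup.centralizer ((L.map (Subgroup.centralizer ({t} : Set Y)).subtype : Subgroup Y) : Set Y) →
        X c ≤ Subgroup.centralizer ((L.map (Subgroup.centralizer ({t} : Set Y)).subtype : Subgroup Y) : Set Y) := by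
      intro i c hc h0 hi hzi u hu
      obtain ⟨v, hv, rfl⟩ := inverted R hp2 hc ((hz i).inv c hc hi) hu
      rw [commutatorElement_def]
      have h2 := conj_mem_cent hEC hEl hc0 (hXE c hc h0 hv) (inv_mem hzi)
      have h3 : z i * v * (z i)⁻¹ * v⁻¹ = z i * (v * (z i)⁻¹ * v⁻¹) := by group
      rw [h3]
      exact mul_mem hzi h2
    have hall : ∀ i, AA X (b i) ≤
        Subgroup.centralizer ((L.map (Subgroup.centralizer ({t} : Set Y)).subtype : Subgroup Y) : Set Y) := by
      intro i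
      induction hcon i with
      | refl => exact hcon1
      | tail _ hij ih =>
        refine sup_le (hstep _ _ (hb _).1 (hb _).2 hij (ih (hzA _))) ?_
        refine hstep _ _ (hb _).1.neg (by rw [map_neg, (hb _).2, neg_zero]) ?_ (ih (hzA _))
        rw [map_neg]
        exact neg_ne_zero.2 hij
    have hEle : E ≤
        Subgroup.centralizer ((L.map (Subgroup.centralizer ({t} : Set Y)).subtype : Subgroup Y) : Set Y) := by
      rw [hE]
      refine RGD.Sup_le fun c hc => ?_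
      obtain ⟨i, hi⟩ := hcov c hc.1 hc.2
      exact hstep i c hc.1 hc.2 hi (hall i (hzA i))
    have hLC : L.map (Subgroup.centralizer ({t} : Set Y)).subtype ≤ Subgroup.centralizer {t} :=
      Subgroup.map_subtype_le L
    have h5 := perfect_le_ES R hp2 hG hTc ht hLC (comp_perfect hc0)
    rw [← hE] at h5
    exact comp_not_le hc0 (h5.trans hEle)

/-- **The case of a central product.** (After `LrTor.card_le_two`.) -/
theorem two_good [Finite W] [Finite Y] (R : RGD cs h p T n X) (hp2 : Odd p) (hG : GG cs h T X = ⊤)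
    (hTc : ∀ s ∈ T, ∀ t ∈ T, s * t = t * s) {φ : (I → ℤ) →+ ZMod 2} {t : Y} (ht : SgnEl cs h T X φ t)
    {M1 A1 : Subgroup Y} (hM : M1 ≤ Subgroup.centralizer {t})
    (hMn : Subgroup.centralizer {t} ≤ Subgroup.normalizer (M1 : Set Y)) (hMq : IsQuasisimple ↥M1)
    (hA : A1 ≤ Subgroup.centralizer {t})
    (hAn : Subgroup.centralizer {t} ≤ Subgroup.normalizer (A1 : Set Y))
    (hcomm : ∀ x ∈ M1, ∀ y ∈ A1, x * y = y * x) (hle : RGD.Sup X (ES cs h φ) ≤ M1 ⊔ A1)
    {z1 : Y} (hAs : IsSL p A1 z1) (hA1 : A1 ≠ ⊥)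
    (hgd : ∃ B z, SLc p B z ∧ B ≤ M1 ∧ ¬ B ≤ Subgroup.centralizer (M1 : Set Y)) :
    GoodC p (Subgroup.centralizer {t}) := by
  intro _ L0 hL0 hc0
  have hK1 := isComponent_of_normal hM hMn hMq
  by_cases hLM : L0 = M1
  · right
    subst hLM
    obtain ⟨B, z, hB, hBM, hBn⟩ := hgd
    refine ⟨B, z, hB, hBM.trans hM, ?_, hBn⟩
    refine le_trans ?_ (component_le_layer hK1)
    intro x hx
    rw [Subgroup.mem_subgroupOf] at hx ⊢
    exact hBM hx
  · left
    obtain ⟨L, hL⟩ : ∃ L, L = L0.subgroupOf (Subgroup.centralizer {t}) := ⟨_, rfl⟩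
    have hLm : L.map (Subgroup.centralizer ({t} : Set Y)).subtype = L0 := by rw [hL]; exact map_sub hL0
    rw [← hL] at hc0
    have hne : L ≠ M1.subgroupOf (Subgroup.centralizer {t}) := by
      intro h1
      apply hLM
      rw [← hLm, h1, map_sub hM]
    have key : L.map (Subgroup.centralizer ({t} : Set Y)).subtype ≤ A1 := by
      have h1 := component_le_centralizer_of_ne hK1 hc0 (Ne.symm hne)
      rw [le_cent_iff hM] at h1
      have h5 := perfect_le_ES R hp2 hG hTc ht (Subgroup.map_subtype_le L) (comp_perfect hc0)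
      refine le_of_comm (comp_perfect hc0) (h5.trans hle) (fun x hx y hy => ?_) hcomm
      exact (Subgroup.mem_centralizer_iff.1 (h1 hx) y hy).symm
    refine ⟨z1, ?_⟩
    have hEq : L0 = A1 := by
      rcases hAs.solv_or_qs hp2 hA1 with hs | hq
      · exfalso
        refine comp_ne_bot hc0 (eq_bot_of_perfect_solvable (comp_perfect hc0) ?_)
        exact Group.isSolvable_of_isSolvable_injective (f := Subgroup.inclusion key) (Subgroup.inclusion_injective key)
      · have hK2 := isComponent_of_normal hA hAn hq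
        by_cases h6 : L = A1.subgroupOf (Subgroup.centralizer {t})
        · rw [← hLm, h6, map_sub hA]
        · exfalso
          have h8 := component_le_centralizer_of_ne hc0 hK2 h6
          apply comp_not_le hc0
          rintro _ ⟨x, hx, rfl⟩
          rw [Subgroup.mem_centralizer_iff]
          rintro _ ⟨y, hy, rfl⟩
          have h9 : y ∈ A1.subgroupOf (Subgroup.centralizer {t}) := by
            rw [Subgroup.mem_subgroupOf]
            exact key ⟨y, hy, rfl⟩
          exact congrArg Subtype.val (Subgroup.mem_centralizer_iff.1 (h8 hx) y h9)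
    rw [hEq]
    exact hAs

end RGD

section Orb

variable {l : ℕ} {W Y : Type*} [Group W] [Group Y] {M : CoxeterMatrix (Fin l)}
  {cs : CoxeterSystem M W} {A : Fin l → Fin l → ℤ} {h : IsCartan M A} {p : ℕ} {T : Subgroup Y} {n : Fin l → Y}
  {X : (Fin l → ℤ) → Subgroup Y}

/-- all sign elements `≠ 1` of the mask `m` are good -/
def PG (cs : CoxeterSystem M W) (h : IsCartan M A) (p : ℕ) (T : Subgroup Y) (X : (Fin l → ℤ) → Subgroup Y) (m : ℕ) : Prop :=
  ∀ t, SgnEl cs h T X (bits l m) t → t ≠ 1 → GoodC p (Subgroup.centralizer {t})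

theorem PG.step (R : RGD cs h p T n X) {rm : List ℕ} (hrm : OkR A rm) (j : Fin l) (m : ℕ)
    (hP : PG cs h p T X (stepR rm j m)) : PG cs h p T X m := by
  intro t ht h1
  have h2 := ht.conj R (rp_simple cs R.nsys j)
  rw [bits_step cs h hrm] at h2
  refine (hP _ h2 fun h3 => h1 ?_).conj
  rw [mul_inv_eq_one, mul_eq_left] at h3
  exact h3

theorem PG.zero (hG1 : G1 cs h X = ⊤) (hZ : Subgroup.center Y = ⊥) : PG cs h p T X 0 := by
  intro t ht h1
  exfalso
  apply h1
  refine SgnEl.unique hG1 hZ ht ⟨one_mem _, fun a _ _ u _ => by rw [one_mul, mul_one], fun a _ h2 => ?_⟩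
  exact absurd (by rw [bits_zero]; rfl) h2

end Orb

end Cfsg.Agent.H73.OI
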