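import Mathlib
import Cfsg.Agent.H557.LrSL
import Cfsg.Agent.H73.OI.BO

/-!
# Quaternion subgroups of the normal subgroups of `SL₂(q)`, `q` odd (S3325, helper73)
-/

set_option autoImplicit false

namespace Cfsg.Agent.H73.OI

open Subgroup Cfsg Matrix
open Cfsg.Agent.SignalizersComponents.Components
open Cfsg.Agent.Cit.LongSL3 (S3)
open scoped MatrixGroups

theorem three_q8 : ∀ g : S3, g ≠ 1 → g ≠ -1 → ∃ v : S3, (v = g ∨ v = g * g ∨ v = g * g * g ∨ ∃ h : S3, v = g * (h * g⁻¹ * h⁻¹)) ∧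
    v * v = -1 ∧ ∃ k : S3, (k * v * k⁻¹) * (k * v * k⁻¹) = -1 ∧ v * (k * v * k⁻¹) * v⁻¹ = (k * v * k⁻¹)⁻¹ := by
  decide +kernel

/-- the quaternion relations -/
def Q8 {G : Type*} [Group G] (m v w : G) : Prop := v * v = m ∧ w * w = m ∧ v * w * v⁻¹ = w⁻¹

theorem three_q8' (N : Subgroup S3) (hN : N.Normal) {g : S3} (hg : g ∈ N) (h1 : g ≠ 1) (h2 : g ≠ -1) :
    ∃ v ∈ N, ∃ w ∈ N, Q8 (-1) v w := by
  obtain ⟨v, hv, hvv, k, hk, hvk⟩ := three_q8 g h1 h2
  have hvN : v ∈ N := by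
    rcases hv with rfl | rfl | rfl | ⟨h, rfl⟩
    · exact hg
    · exact mul_mem hg hg
    · exact mul_mem (mul_mem hg hg) hg
    · exact mul_mem hg (hN.conj_mem _ (inv_mem hg) h)
  exact ⟨v, hvN, _, hN.conj_mem _ hvN k, hvv, hk, hvk⟩

variable {K : Type} [Field K]

/-- the only involution of `SL₂` -/
theorem sl_inv (h2 : (2 : K) ≠ 0) {x : SL(2, K)} (hx : x * x = 1) : x = 1 ∨ x = -1 := by
  have hd := x.2
  rw [Matrix.det_fin_two] at hd
  have h := congrArg Subtype.val hx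
  have h0 : x.1 * x.1 = 1 := h
  have a := congrFun (congrFun h0 0) 0
  have b := congrFun (congrFun h0 0) 1
  have c := congrFun (congrFun h0 1) 0
  have d := congrFun (congrFun h0 1) 1
  simp only [Matrix.mul_apply, Fin.sum_univ_two, Matrix.one_apply_eq, ne_eq, zero_ne_one, not_false_eq_true,
    Matrix.one_apply_ne, one_ne_zero] at a b c d
  obtain ⟨p, hp⟩ : ∃ p, p = x.1 0 0 := ⟨_, rfl⟩
  obtain ⟨q, hq⟩ : ∃ q, q = x.1 0 1 := ⟨_, rfl⟩
  obtain ⟨r, hr⟩ : ∃ r, r = x.1 1 0 := ⟨_, rfl⟩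
  obtain ⟨s, hs⟩ : ∃ s, s = x.1 1 1 := ⟨_, rfl⟩
  rw [← hp, ← hq, ← hr, ← hs] at hd
  rw [← hp, ← hq, ← hr] at a
  rw [← hp, ← hq, ← hs] at b
  rw [← hp, ← hr, ← hs] at c
  rw [← hq, ← hr, ← hs] at d
  -- `tr x ≠ 0`
  have ht : p + s ≠ 0 := by
    intro h0
    apply h2
    have : s = -p := by linear_combination h0
    subst this
    linear_combination -a - hd
  have hq0 : q = 0 := by
    have : (p + s) * q = 0 := by linear_combination b
    exact (mul_eq_zero.1 this).resolve_left ht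
  have hr0 : r = 0 := by
    have : (p + s) * r = 0 := by linear_combination c
    exact (mul_eq_zero.1 this).resolve_left ht
  have hps : p = s := by
    have h3 : (p + s) * (p - s) = 0 := by linear_combination a - d
    exact sub_eq_zero.1 ((mul_eq_zero.1 h3).resolve_left ht)
  subst hps
  rw [hq0, hr0] at a
  have h4 : p = 1 ∨ p = -1 := mul_self_eq_one_iff.1 (by linear_combination a)
  have hM : ∀ e : K, p = e → x.1 = !![e, 0; 0, e] := by
    intro e he
    rw [Matrix.eta_fin_two x.1, ← hp, ← hq, ← hr, ← hs, hq0, hr0, he]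
  rcases h4 with h4 | h4
  · left
    apply Subtype.ext
    rw [hM 1 h4]
    exact Matrix.one_fin_two.symm
  · right
    apply Subtype.ext
    rw [hM (-1) h4]
    show _ = -(1 : Matrix (Fin 2) (Fin 2) K)
    rw [Matrix.one_fin_two]
    ext i j
    fin_cases i <;> fin_cases j <;> simp

theorem exists_q8 [Fintype K] (h2 : (2 : K) ≠ 0) : ∃ v w : SL(2, K), Q8 (-1) v w := by
  obtain ⟨a, b, hab⟩ := sq_add_sq h2 (-1)
  obtain ⟨V, hV⟩ : ∃ V : SL(2, K), V.1 = !![0, 1; -1, 0] := ⟨⟨!![0, 1; -1, 0], by simp [Matrix.det_fin_two]⟩, rfl⟩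
  obtain ⟨W, hW⟩ : ∃ W : SL(2, K), W.1 = !![a, b; b, -a] := ⟨⟨!![a, b; b, -a], by
    rw [Matrix.det_fin_two]
    simp
    linear_combination -hab⟩, rfl⟩
  refine ⟨V, W, ?_, ?_, ?_⟩
  · apply Subtype.ext
    show V.1 * V.1 = -(1 : Matrix (Fin 2) (Fin 2) K)
    rw [hV, Matrix.one_fin_two]
    ext i j
    fin_cases i <;> fin_cases j <;> simp
  · apply Subtype.ext
    show W.1 * W.1 = -(1 : Matrix (Fin 2) (Fin 2) K)
    rw [hW, Matrix.one_fin_two]
    ext i j
    fin_cases i <;> fin_cases j <;> simp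
    · linear_combination hab
    · ring
    · ring
    · linear_combination hab
  · rw [mul_inv_eq_iff_eq_mul, eq_inv_mul_iff_mul_eq]
    apply Subtype.ext
    show W.1 * (V.1 * W.1) = V.1
    rw [hV, hW]
    ext i j
    fin_cases i <;> fin_cases j <;> simp
    · ring
    · linear_combination -hab
    · linear_combination hab
    · ring

theorem sl_q8 [Fintype K] (ho : Odd (Fintype.card K)) (h2 : (2 : K) ≠ 0) (N : Subgroup SL(2, K)) (hN : N.Normal)
    {g : SL(2, K)} (hg : g ∈ N) (h1 : g ≠ 1) (h1' : g ≠ -1) : ∃ v ∈ N, ∃ w ∈ N, Q8 (-1) v w := by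
  by_cases h3 : Fintype.card K = 3
  · obtain ⟨e⟩ := Cfsg.Agent.Cit.LongAbs.equiv_S3 h3
    have h4 : e (-1) = -1 := by
      refine (H557.LrSL.three_sq (e (-1)) ?_).resolve_left fun h => ?_
      · rw [← map_mul, neg_one_mul, neg_neg, map_one]
      · exact H557.LrSL.neg_one_ne' h2 (e.injective (by rw [h, map_one]))
    have hN' : (N.map e.toMonoidHom).Normal := hN.map _ e.surjective
    obtain ⟨v, ⟨v, hv, rfl⟩, w, ⟨w, hw, rfl⟩, h5, h6, h7⟩ := three_q8' (N.map e.toMonoidHom) hN' (g := e g) ⟨g, hg, rfl⟩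
      (fun h => h1 (e.injective (by rw [h, map_one]))) (fun h => h1' (e.injective (by rw [h, h4])))
    refine ⟨v, hv, w, hw, ?_, ?_, ?_⟩
    · apply e.injective
      rw [map_mul, h4]
      exact h5
    · apply e.injective
      rw [map_mul, h4]
      exact h6
    · apply e.injective
      rw [map_mul, map_mul, map_inv, map_inv]
      exact h7
  · have hq := Cfsg.Agent.Cit.LongAbs.quasisimple_SL2 ho h3
    rcases quasisimple_normal hq N hN with h | h
    · obtain ⟨v, w, hvw⟩ := exists_q8 h2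
      exact ⟨v, by rw [h]; exact mem_top v, w, by rw [h]; exact mem_top w, hvw⟩
    · exfalso
      rcases H557.LrSL.center_sl (h hg) with h4 | h4
      · exact h1 h4
      · exact h1' h4

end Cfsg.Agent.H73.OI
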