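import Mathlib
import Cfsg.Agent.H73.OI.Good
import Cfsg.Agent.H557.LrData

/-!
# The involutions of the torus of `F₄(q)`, `E₆(q)`, `E₇(q)`, `E₈(q)` are good (S3325, helper73)

From the tables of `H557.LrData`.
-/

set_option autoImplicit false
set_option linter.unusedSectionVars false

namespace Cfsg.Agent.H73.OI

open CoxeterSystem
open Cfsg Cfsg.Lie Cfsg.Lie.ChevalleyDatum
open Cfsg.Agent.ChevalleyStructure Cfsg.Agent.ChevalleyStructure.Elts Cfsg.Agent.ChevalleyStructure.CoxeterGeom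
  Cfsg.Agent.ChevalleyStructure.RootVec Cfsg.Agent.ChevalleyStructure.RootVecTab
  Cfsg.Agent.ChevalleyStructure.CoxeterGeomTypes Cfsg.Agent.ChevalleyStructure.NPerm
open Cfsg.Agent.Tits.Roots Cfsg.Agent.Nodes.Reps Cfsg.Agent.Nodes.BNOf Cfsg.Agent.Nodes.RGDChev
  Cfsg.Agent.Nodes.Bruhat Cfsg.Agent.Nodes.RGDLib
open Cfsg.Agent.OddHalf.LongSL Cfsg.Agent.OddHalf.LongSL.Chev
open Cfsg.Agent.KFacts.RgdChevCoord (TT XX nc xc ch act coe_xc)
open Cfsg.Agent.GenExc Cfsg.Agent.GenExc.Chev
open Cfsg.Agent.H557.LrAbs Cfsg.Agent.H557.LrSgn Cfsg.Agent.H557.LrTor Cfsg.Agent.H557.LrOrb Cfsg.Agent.H557.LrIso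
  Cfsg.Agent.H557.LrChev Cfsg.Agent.H557.LrRho Cfsg.Agent.H557.LrData
open scoped commutatorElement MatrixGroups

section

variable {D : ChevalleyDatum} {l m : ℕ} {M : CoxeterMatrix (Fin l)} (hp : IsType D l M) {K : Type} [Field K]
  {W : Type*} [Group W] (cs : CoxeterSystem M W) {f : Fin (m + 1) ↪ Fin l} {S Jc Js : List (Fin l)} {rho : ℕ}
  {i0 i1 j1 : Fin l} {ω ω' : List (Fin l)} (H : RhoD D f S Jc Js rho i0 ω) (H' : RhoD D f S Jc Js rho i1 ω')
  [Fintype K] (p : ℕ) [Fact p.Prime] [CharP K p] (hZ : Subgroup.center ↥(D.group K) = ⊥)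

include H H' hZ in
/-- **the class of the involution of the highest root** -/
theorem class_rho_good (hp2 : Odd p) {k0 : ℕ} (hk0 : bits l (2 ^ k0) = csz (cartanOf D l) S)
    (hi : ∃ a, f a = i1) (hj : ∃ a, f a = j1) (hij : csv (cartanOf D l) [i1] (sr j1) % 2 ≠ 0) :
    PG cs hp.isCartan p (TT D K) (XX D l K) (2 ^ k0) := by
  have hW : Finite W := finite_W hp cs
  have hfin : Finite ↥(D.group K) := inferInstance
  have h2 := (odd_card (F := K) hp2).2
  have R := rgd (K := K) hp cs p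
  intro t ht _
  rw [hk0] at ht
  obtain rfl := SgnEl.unique (G1_eq_top hp cs) hZ ht (sgnEl_zS hp K cs S)
  have hrt := H.rt hp cs p hZ
  obtain ⟨S', hS'⟩ := H.chk
  have hNI := NI_eq hp cs f H.sub.hJc hS'
  have hiso := H.iso hp cs
  have hE := Chev.evenSet (K := K) hp cs h2 [S]
  rw [set_eq] at hE
  have hrE : vec D l rho ∈ Ev D l [S] := ((hiso _).2 (Or.inl rfl)).1
  have hmem : ∀ x, IsRoot cs hp.isCartan x → csz (cartanOf D l) S x = 0 → x ∈ Ev D l [S] := by
    intro x hx h0
    obtain ⟨r, hr, rfl⟩ := (isRoot_iff hp cs x).1 hx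
    rw [mem_Ev_vec hp hr]
    intro T hT
    rw [List.mem_singleton] at hT
    rw [hT]
    exact (csz_vec hp S hr).1 h0
  have hM : HL cs hp.isCartan (XX D l K) f ≤ Subgroup.centralizer {zS hp K S} := by
    refine RGD.Sup_le fun x hx => ?_
    rw [← hNI] at hx
    exact hE.even x hx.1
  have hMn : Subgroup.centralizer {zS hp K S} ≤
      Subgroup.normalizer (HL cs hp.isCartan (XX D l K) f : Set ↥(D.group K)) := by
    have := H.sub.normalizes hp cs (K := K) p h2
    rwa [set_eq] at this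
  have hbot : AA (XX D l K) (vec D l rho) ≠ ⊥ := by
    intro hbot
    apply X_ne_bot R hrt.root
    rw [eq_bot_iff, ← hbot]
    exact (le_sup_left : XX D l K (vec D l rho) ≤ AA (XX D l K) (vec D l rho))
  refine two_good R hp2 (KFacts.RgdRigid.GG_eq_top (G1_eq_top hp cs)) (diag_comm hp K) ht hM hMn
    (H.sub.isQuasisimple hp cs p h2) (sup_le (hE.even _ hrE) (hE.even _ (hE.neg _ hrE))) (H.norm hp cs p h2) ?_ ?_
    hrt.sl hbot ?_
  · have hle : HL cs hp.isCartan (XX D l K) f ≤
        Subgroup.centralizer (AA (XX D l K) (vec D l rho) : Set ↥(D.group K)) := by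
      refine RGD.Sup_le fun x hx u hu => ?_
      rw [← hNI] at hx
      rw [Subgroup.mem_centralizer_iff]
      intro v hv
      exact (comm_AA (commOK hp cs) hE hiso hx u hu v hv).symm
    intro x hx y hy
    exact (Subgroup.mem_centralizer_iff.1 (hle hx) y hy).symm
  · refine RGD.Sup_le fun x hx => ?_
    have hxE := hmem x hx.1 hx.2
    by_cases hN : x ∈ NI cs hp.isCartan (Ev D l [S])
    · rw [hNI] at hN
      exact le_trans (X_le_HL (X := XX D l K) f hN) le_sup_left
    · rcases (hiso x).1 ⟨hxE, hN⟩ with rfl | rfl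
      · exact le_trans (le_sup_left : XX D l K (vec D l rho) ≤ AA (XX D l K) (vec D l rho)) le_sup_right
      · exact le_trans (le_sup_right : XX D l K (-vec D l rho) ≤ AA (XX D l K) (vec D l rho)) le_sup_right
  · -- a fundamental long root in the subsystem
    have hsr : ∀ i : Fin l, (∃ a, f a = i) → (sr i : Fin l → ℤ) ∈ LR cs hp.isCartan f ∧
        -(sr i : Fin l → ℤ) ∈ LR cs hp.isCartan f := by
      rintro i ⟨a, rfl⟩
      exact ⟨sr_mem_LR f a, LR_neg f (sr_mem_LR f a)⟩
    have hsl := rt_simple hp K cs p i1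
    have hodd : csz (cartanOf D l) [i1] (sr j1) ≠ 0 := by
      intro h0
      rw [csz_eq_zero_iff, Int.even_iff] at h0
      exact hij h0
    refine ⟨AA (XX D l K) (sr i1), zS hp K [i1], ⟨hsl.sl, H'.norm_simple hp cs p hZ h2,
      sgn_ne_one R hp2 hsl.sgn (isRoot_sr cs hp.isCartan j1) hodd⟩, ?_, ?_⟩
    · exact sup_le (X_le_HL f (hsr i1 hi).1) (X_le_HL f (hsr i1 hi).2)
    · intro hcon
      have hz := hcon hsl.sl.mem
      refine not_fix_of_inv R hp2 hsl.sgn (isRoot_sr cs hp.isCartan j1) hodd fun u hu => ?_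
      exact (Subgroup.mem_centralizer_iff.1 hz u (X_le_HL f (hsr j1 hj).1 hu)).symm

end

section

variable {D : ChevalleyDatum} {l m : ℕ} {M : CoxeterMatrix (Fin l)} (hp : IsType D l M) {K : Type} [Field K]
  {W : Type*} [Group W] (cs : CoxeterSystem M W) {f : Fin (m + 1) ↪ Fin l} {S Jc Js : List (Fin l)} {rho : ℕ}
  {i0 : Fin l} {ω : List (Fin l)} (H : RhoD D f S Jc Js rho i0 ω)
  [Fintype K] (p : ℕ) [Fact p.Prime] [CharP K p] (hZ : Subgroup.center ↥(D.group K) = ⊥)
  {k : Fin l} {sd : List (ℕ × List (Fin l))}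

include H hZ in
/-- **an irreducible class** -/
theorem class_irr_good (hp2 : Odd p) (C : IrrD D k sd rho S i0)
    (hj : ∃ j : Fin l, csv (cartanOf D l) [i0] (sr j) % 2 ≠ 0) :
    PG cs hp.isCartan p (TT D K) (XX D l K) (2 ^ (k : ℕ)) := by
  have hW : Finite W := finite_W hp cs
  have hfin : Finite ↥(D.group K) := inferInstance
  have h2 := (odd_card (F := K) hp2).2
  have R := rgd (K := K) hp cs p
  intro t ht _
  have hsimple : ∀ j : Fin l, (sr j : Fin l → ℤ) = vec D l (D.simple j) := fun j => (vec_simple hp j).symm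
  have hodd : ∀ (T : List (Fin l)) {r : ℕ}, r < D.nroots → evB D T r = false →
      csz (cartanOf D l) T (vec D l r) ≠ 0 := by
    intro T r hr h h0
    rw [(evB_iff hp T hr).2 ((csz_vec hp T hr).1 h0)] at h
    exact absurd h (by decide)
  have hget : ∀ i : Fin sd.length, sd.get i ∈ sd := fun i => List.get_mem sd i
  refine irr_good R hp2 (KFacts.RgdRigid.GG_eq_top (G1_eq_top hp cs)) (diag_comm hp K)
    (b := fun i : Fin sd.length => vec D l (sd.get i).1) (z := fun i => zS hp K (sd.get i).2)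
    (ψ := fun i => csz (cartanOf D l) (sd.get i).2) (i0 := ⟨0, C.pos⟩) ht ?_ ?_ ?_ ?_ ?_ ?_ ?_ ?_
  · intro i
    obtain ⟨h3, h4⟩ := C.lt _ (hget i)
    exact ⟨isRoot_vec hp cs h3, (evk_iff hp k h3).1 h4⟩
  · intro i
    exact sgnEl_zS hp K cs _
  · intro i
    rcases C.seed _ (hget i) with ⟨j, e⟩ | e
    · rw [e]
      show zS hp K [j] ∈ AA (XX D l K) (vec D l (D.simple j))
      rw [← hsimple]
      exact (rt_simple hp K cs p j).sl.mem
    · rw [e]
      exact (H.rt hp cs p hZ).sl.mem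
  · show IsSL p (AA (XX D l K) (vec D l (sd.get ⟨0, C.pos⟩).1)) (zS hp K (sd.get ⟨0, C.pos⟩).2)
    rw [C.first]
    show IsSL p (AA (XX D l K) (vec D l (D.simple i0))) (zS hp K [i0])
    rw [← hsimple]
    exact (rt_simple hp K cs p i0).sl
  · show Subgroup.centralizer {zS hp K (sd.get ⟨0, C.pos⟩).2} ≤
      Subgroup.normalizer (AA (XX D l K) (vec D l (sd.get ⟨0, C.pos⟩).1) : Set ↥(D.group K))
    rw [C.first]
    show Subgroup.centralizer {zS hp K [i0]} ≤
      Subgroup.normalizer (AA (XX D l K) (vec D l (D.simple i0)) : Set ↥(D.group K))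
    rw [← hsimple]
    exact H.norm_simple hp cs p hZ h2
  · obtain ⟨j, hj⟩ := hj
    refine ⟨sr j, isRoot_sr cs hp.isCartan j, ?_⟩
    show csz (cartanOf D l) (sd.get ⟨0, C.pos⟩).2 (sr j) ≠ 0
    rw [C.first]
    intro h0
    rw [csz_eq_zero_iff, Int.even_iff] at h0
    exact hj h0
  · intro c hc h0
    obtain ⟨r, hr, rfl⟩ := (isRoot_iff hp cs c).1 hc
    have h3 := C.cov
    rw [allLT_iff] at h3
    have h4 := h3 r hr
    rw [(evk_iff hp k hr).2 h0, Bool.not_true, Bool.false_or, List.any_eq_true] at h4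
    obtain ⟨s, hs, h5⟩ := h4
    obtain ⟨i, hi, e⟩ := List.mem_iff_getElem.1 hs
    refine ⟨⟨i, hi⟩, ?_⟩
    show csz (cartanOf D l) (sd.get ⟨i, hi⟩).2 (vec D l r) ≠ 0
    rw [List.get_eq_getElem]
    simp only [e]
    refine hodd _ hr ?_
    rwa [Bool.not_eq_true'] at h5
  · obtain ⟨par, hpar⟩ := C.par
    have key : ∀ n : ℕ, ∀ i : Fin sd.length, (i : ℕ) = n → Relation.ReflTransGen
        (fun i j : Fin sd.length => csz (cartanOf D l) (sd.get i).2 (vec D l (sd.get j).1) ≠ 0) ⟨0, C.pos⟩ i := by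
      intro n
      induction n using Nat.strong_induction_on with
      | _ n ih =>
        intro i hi
        by_cases h0 : (i : ℕ) = 0
        · have : i = ⟨0, C.pos⟩ := Fin.ext h0
          rw [this]
        · obtain ⟨h3, h4⟩ := hpar i h0
          refine Relation.ReflTransGen.tail (ih _ (by rw [← hi]; exact h3) _ rfl) ?_
          exact hodd _ (C.lt _ (hget i)).1 h4
    exact fun i => key _ i rfl

end

/-- from the masks to the torus -/
theorem torus_of_good {D : ChevalleyDatum} {l : ℕ} {M : CoxeterMatrix (Fin l)} (hp : IsType D l M) {K : Type} [Field K]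
    [Finite K] (p : ℕ) [Fact p.Prime] [CharP K p] (hp2 : Odd p) {W : Type*} [Group W] (cs : CoxeterSystem M W)
    (hP : ∀ n < 2 ^ l, PG cs hp.isCartan p (TT D K) (XX D l K) n) {t : ↥(D.group K)} (ht : t ∈ TT D K)
    (htt : t * t = 1) (h1 : t ≠ 1) : GoodC p (Subgroup.centralizer {t}) := by
  have := Fintype.ofFinite K
  obtain ⟨n, hn, hs⟩ := exists_sgn hp cs p (odd_card (F := K) hp2).2 ht htt
  exact hP n hn t hs h1

/-! ### the second fundamental root -/

set_option backward.isDefEq.respectTransparency false in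
theorem rhoE6' : RhoD chevE6 fE6 [0, 3, 5] [1] [0, 2, 3, 4, 5] 71 3
    [1, 3, 4, 5, 2, 3, 4, 0, 2, 3, 3, 1] where
  sub := rhoE6.sub
  chk := rhoE6.chk
  even := rhoE6.even
  lt := rhoE6.lt
  word := by decide +kernel
  char := by decide +kernel

set_option backward.isDefEq.respectTransparency false in
theorem rhoE7' : RhoD chevE7 fE7 [2, 4, 6] [0] [1, 2, 3, 4, 5, 6] 125 2
    [0, 2, 3, 4, 5, 6, 1, 3, 4, 5, 2, 3, 4, 1, 3, 2, 2, 0] where
  sub := rhoE7.sub
  chk := rhoE7.chk
  even := rhoE7.even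
  lt := rhoE7.lt
  word := by decide +kernel
  char := by decide +kernel

set_option backward.isDefEq.respectTransparency false in
theorem rhoE8' : RhoD chevE8 fE8 [1, 4, 6] [7] [0, 1, 2, 3, 4, 5, 6] 239 6
    [7, 6, 5, 4, 3, 2, 1, 3, 4, 5, 6, 0, 2, 3, 4, 5, 1, 3, 4, 2, 3, 0, 2, 1, 3, 4, 5, 6, 6, 7] where
  sub := rhoE8.sub
  chk := rhoE8.chk
  even := rhoE8.even
  lt := rhoE8.lt
  word := by decide +kernel
  char := by decide +kernel

set_option backward.isDefEq.respectTransparency false in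
theorem rhoF4' : RhoD chevF4 fF4 [0, 2] [3] [0, 1, 2] 47 2
    [3, 2, 1, 2, 0, 1, 2, 2, 3] where
  sub := rhoF4.sub
  chk := rhoF4.chk
  even := rhoF4.even
  lt := rhoF4.lt
  word := by decide +kernel
  char := by decide +kernel

set_option backward.isDefEq.respectTransparency false

/-- **`F4`** : the involutions of the torus -/
theorem torus_F4_good {K : Type} [Field K] [Finite K] (p : ℕ) [Fact p.Prime] [CharP K p] (hp2 : Odd p)
    {t : ↥(chevF4.group K)} (ht : t ∈ TT chevF4 K) (htt : t * t = 1) (h1 : t ≠ 1) :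
    GoodC p (Subgroup.centralizer {t}) := by
  have := Fintype.ofFinite K
  obtain ⟨cs, -⟩ : ∃ cs, cs = (CoxeterMatrix.F₄).toCoxeterSystem := ⟨_, rfl⟩
  have hW : Finite (CoxeterMatrix.F₄).Group := finite_W isType_F4 cs
  have hZ : Subgroup.center ↥(chevF4.group K) = ⊥ := center_eq_bot (S1054.result _ (by simp))
  have R := rgd (K := K) isType_F4 cs p
  refine torus_of_good isType_F4 p hp2 cs (fun n hn => ?_) ht htt h1
  refine orbit_all (rm := rmF4) (fun j n => PG.step R okR_F4 j n) okL_F4 (fun m hm => ?_) hn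
  have hc : ∀ m : ℕ, (259 : ℕ).testBit m = true → m = 0 ∨ m = 8 ∨ m = 1 := by
    intro m hm
    by_cases h : m < 9
    · revert hm
      revert m
      decide +kernel
    · exfalso
      rw [Nat.testBit_lt_two_pow (lt_of_lt_of_le (by norm_num : (259 : ℕ) < 2 ^ 9)
        (Nat.pow_le_pow_right (by norm_num) (not_lt.1 h)))] at hm
      exact absurd hm (by decide)
  rcases hc m hm with rfl | rfl | rfl
  · exact PG.zero (G1_eq_top isType_F4 cs) hZ
  · exact class_rho_good isType_F4 cs rhoF4 rhoF4' p hZ hp2 (k0 := 3) bits_F4 (j1 := 1) (by decide) (by decide)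
      (by decide +kernel)
  · exact class_irr_good isType_F4 cs rhoF4 p hZ hp2 irrF4_0 ⟨2, by decide +kernel⟩

/-- **`E6`** : the involutions of the torus -/
theorem torus_E6_good {K : Type} [Field K] [Finite K] (p : ℕ) [Fact p.Prime] [CharP K p] (hp2 : Odd p)
    {t : ↥(chevE6.group K)} (ht : t ∈ TT chevE6 K) (htt : t * t = 1) (h1 : t ≠ 1) :
    GoodC p (Subgroup.centralizer {t}) := by
  have := Fintype.ofFinite K
  obtain ⟨cs, -⟩ : ∃ cs, cs = (CoxeterMatrix.E₆).toCoxeterSystem := ⟨_, rfl⟩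
  have hW : Finite (CoxeterMatrix.E₆).Group := finite_W isType_E6 cs
  have hZ : Subgroup.center ↥(chevE6.group K) = ⊥ := center_eq_bot (S1054.result _ (by simp))
  have R := rgd (K := K) isType_E6 cs p
  refine torus_of_good isType_E6 p hp2 cs (fun n hn => ?_) ht htt h1
  refine orbit_all (rm := rmE6) (fun j n => PG.step R okR_E6 j n) okL_E6 (fun m hm => ?_) hn
  have hc : ∀ m : ℕ, (7 : ℕ).testBit m = true → m = 0 ∨ m = 2 ∨ m = 1 := by
    intro m hm
    by_cases h : m < 3
    · revert hm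
      revert m
      decide +kernel
    · exfalso
      rw [Nat.testBit_lt_two_pow (lt_of_lt_of_le (by norm_num : (7 : ℕ) < 2 ^ 3)
        (Nat.pow_le_pow_right (by norm_num) (not_lt.1 h)))] at hm
      exact absurd hm (by decide)
  rcases hc m hm with rfl | rfl | rfl
  · exact PG.zero (G1_eq_top isType_E6 cs) hZ
  · exact class_rho_good isType_E6 cs rhoE6 rhoE6' p hZ hp2 (k0 := 1) bits_E6 (j1 := 4) (by decide) (by decide)
      (by decide +kernel)
  · exact class_irr_good isType_E6 cs rhoE6 p hZ hp2 irrE6_0 ⟨3, by decide +kernel⟩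

/-- **`E7`** : the involutions of the torus -/
theorem torus_E7_good {K : Type} [Field K] [Finite K] (p : ℕ) [Fact p.Prime] [CharP K p] (hp2 : Odd p)
    {t : ↥(chevE7.group K)} (ht : t ∈ TT chevE7 K) (htt : t * t = 1) (h1 : t ≠ 1) :
    GoodC p (Subgroup.centralizer {t}) := by
  have := Fintype.ofFinite K
  obtain ⟨cs, -⟩ : ∃ cs, cs = (CoxeterMatrix.E₇).toCoxeterSystem := ⟨_, rfl⟩
  have hW : Finite (CoxeterMatrix.E₇).Group := finite_W isType_E7 cs
  have hZ : Subgroup.center ↥(chevE7.group K) = ⊥ := center_eq_bot (S1054.result _ (by simp))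
  have R := rgd (K := K) isType_E7 cs p
  refine torus_of_good isType_E7 p hp2 cs (fun n hn => ?_) ht htt h1
  refine orbit_all (rm := rmE7) (fun j n => PG.step R okR_E7 j n) okL_E7 (fun m hm => ?_) hn
  have hc : ∀ m : ℕ, (18446744073709551623 : ℕ).testBit m = true → m = 0 ∨ m = 1 ∨ m = 64 ∨ m = 2 := by
    intro m hm
    by_cases h : m < 65
    · revert hm
      revert m
      decide +kernel
    · exfalso
      rw [Nat.testBit_lt_two_pow (lt_of_lt_of_le (by norm_num : (18446744073709551623 : ℕ) < 2 ^ 65)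
        (Nat.pow_le_pow_right (by norm_num) (not_lt.1 h)))] at hm
      exact absurd hm (by decide)
  rcases hc m hm with rfl | rfl | rfl | rfl
  · exact PG.zero (G1_eq_top isType_E7 cs) hZ
  · exact class_rho_good isType_E7 cs rhoE7 rhoE7' p hZ hp2 (k0 := 0) bits_E7 (j1 := 3) (by decide) (by decide)
      (by decide +kernel)
  · exact class_irr_good isType_E7 cs rhoE7 p hZ hp2 irrE7_6 ⟨2, by decide +kernel⟩
  · exact class_irr_good isType_E7 cs rhoE7 p hZ hp2 irrE7_1 ⟨2, by decide +kernel⟩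

/-- **`E8`** : the involutions of the torus -/
theorem torus_E8_good {K : Type} [Field K] [Finite K] (p : ℕ) [Fact p.Prime] [CharP K p] (hp2 : Odd p)
    {t : ↥(chevE8.group K)} (ht : t ∈ TT chevE8 K) (htt : t * t = 1) (h1 : t ≠ 1) :
    GoodC p (Subgroup.centralizer {t}) := by
  have := Fintype.ofFinite K
  obtain ⟨cs, -⟩ : ∃ cs, cs = (CoxeterMatrix.E₈).toCoxeterSystem := ⟨_, rfl⟩
  have hW : Finite (CoxeterMatrix.E₈).Group := finite_W isType_E8 cs
  have hZ : Subgroup.center ↥(chevE8.group K) = ⊥ := center_eq_bot (S1054.result _ (by simp))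
  have R := rgd (K := K) isType_E8 cs p
  refine torus_of_good isType_E8 p hp2 cs (fun n hn => ?_) ht htt h1
  refine orbit_all (rm := rmE8) (fun j n => PG.step R okR_E8 j n) okL_E8 (fun m hm => ?_) hn
  have hc : ∀ m : ℕ, (340282366920938463463374607431768211459 : ℕ).testBit m = true → m = 0 ∨ m = 128 ∨ m = 1 := by
    intro m hm
    by_cases h : m < 129
    · revert hm
      revert m
      decide +kernel
    · exfalso
      rw [Nat.testBit_lt_two_pow (lt_of_lt_of_le (by norm_num : (340282366920938463463374607431768211459 : ℕ) < 2 ^ 129)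
        (Nat.pow_le_pow_right (by norm_num) (not_lt.1 h)))] at hm
      exact absurd hm (by decide)
  rcases hc m hm with rfl | rfl | rfl
  · exact PG.zero (G1_eq_top isType_E8 cs) hZ
  · exact class_rho_good isType_E8 cs rhoE8 rhoE8' p hZ hp2 (k0 := 7) bits_E8 (j1 := 5) (by decide) (by decide)
      (by decide +kernel)
  · exact class_irr_good isType_E8 cs rhoE8 p hZ hp2 irrE8_0 ⟨6, by decide +kernel⟩

end Cfsg.Agent.H73.OI
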