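import Mathlib
import Cfsg.Agent.H73.OI.Good
import Cfsg.Agent.H557.LrMov

/-!
# The case of moved roots (S3325, helper73)

After `H557.LrMov`.
-/

set_option autoImplicit false
set_option linter.unusedSectionVars false

namespace Cfsg.Agent.H73.OI

open CoxeterSystem Cfsg.Agent.ChevalleyStructure.CoxeterGeom Cfsg.Agent.Tits.Roots Cfsg.Agent.Tits.Core
  Cfsg.Agent.Tits.RootComb Cfsg.Agent.Tits.Exchange Cfsg.Agent.Nodes.Comb Cfsg.Agent.Nodes.Reps
  Cfsg.Agent.Nodes.BNOf Cfsg.Agent.Nodes.RGDLib Cfsg.Agent.Nodes.Bruhat Cfsg.Agent.Nodes.StabComb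
  Cfsg.Agent.Nodes.OppDec Cfsg.Agent.Nodes.Coroot Cfsg.Agent.KFacts.RgdSL Cfsg.Agent.UGT.U2.FOne
  Cfsg.Agent.H557.LrAbs Cfsg.Agent.H557.LrSgn Cfsg.Agent.H557.LrTor Cfsg.Agent.H557.LrOrb Cfsg.Agent.H557.LrIso
  Cfsg.Agent.H557.LrMov
open Cfsg Cfsg.Agent.SignalizersComponents.Components
open Cfsg.Agent.H974.Exc (ra_comm)
open scoped commutatorElement

variable {I W Y : Type*} [Fintype I] [DecidableEq I] [Group W] [Group Y] {M : CoxeterMatrix I}
  {cs : CoxeterSystem M W} {A : I → I → ℤ} {h : IsCartan M A} {p : ℕ} {T : Subgroup Y} {n : I → Y}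
  {X : (I → ℤ) → Subgroup Y}

section Main

variable [Finite W] (R : RGD cs h p T n X) (hs : SL cs h) {t : Y} (htt : t * t = 1) {w : W}
  (hθ : ∀ c, IsRoot cs h c → cj t (X c) = X (rep cs h w c))
  {ι : Type*} {b : ι → I → ℤ} {z : ι → Y} {ψ : ι → (I → ℤ) →+ ZMod 2} {i0 : ι} {e : Fin 3 → I → ℤ}

include R hs htt hθ in
/-- **The moved case.** (After `LrMov.numLe_one`.) -/
theorem mov_good [Finite Y] (hp2 : Odd p) (hG : GG cs h T X = ⊤) (hTc : ∀ s ∈ T, ∀ t ∈ T, s * t = t * s)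
    (hb : ∀ i, IsRoot cs h (b i)) (hcn : ∀ i, Cn t X (b i) ∧ Cn t X (-b i))
    (hz : ∀ i, SgnEl cs h T X (ψ i) (z i)) (hzA : ∀ i, z i ∈ AA X (b i)) (hsl : IsSL p (AA X (b i0)) (z i0))
    (hcc : Subgroup.centralizer {z i0} ≤ Subgroup.normalizer (AA X (b i0) : Set Y))
    (hne : ∃ c, IsRoot cs h c ∧ ψ i0 c ≠ 0)
    (hpair : ∀ i, ∃ a a', Mv cs h w (ψ i0) a ∧ Mv cs h w (ψ i0) a' ∧ a + a' = b i ∧ cpr cs h a a' = -1 ∧
      0 ≤ cpr cs h a (rep cs h w a') ∧ a ≠ rep cs h w a')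
    (he : ∀ j, IsRoot cs h (e j)) (heθ : ∀ j, rep cs h w (e j) = -e j)
    (hee : ∀ j k, j ≠ k → cpr cs h (e j) (e k) = 0) (hbe : ∀ i j, cpr cs h (b i) (e j) = 0)
    (hEE : ∀ c, IsRoot cs h c → (∀ i, ψ i c = 0) → (∃ i, c = b i ∨ c = -b i) ∨ ∃ j, c = e j ∨ c = -e j)
    (hab : ∀ j, ∀ x ∈ AA X (e j), ∀ y ∈ AA X (e j), t * x = x * t → t * y = y * t → x * y = y * x) :
    GoodC p (Subgroup.centralizer {t}) := by
  intro hPL L0 hL0 hc0
  obtain ⟨P, hP⟩ : ∃ P, P = PP cs h X t w (ψ i0) := ⟨_, rfl⟩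
  have hPC : P ≤ Subgroup.centralizer {t} := by rw [hP]; exact PP_le R hs htt hθ
  have hdiag : ∀ {a : I → ℤ}, Mv cs h w (ψ i0) a → ∀ {u : Y}, u ∈ X a → u * (t * u * t⁻¹) ∈ P := by
    intro a ha u hu
    rw [hP]
    exact diag_mem ha hu
  have hXP : ∀ i, AA X (b i) ≤ ⁅P, P⁆ := by
    intro i
    obtain ⟨a, a', ha, ha', hsum, hc, hc0, hne⟩ := hpair i
    refine sup_le ?_ ?_
    · intro x hx
      rw [← hsum] at hx
      obtain ⟨u, hu, v, hv, rfl⟩ := exists_comm R hs htt hθ hp2 ha.root ha'.root hc hc0 hne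
        (by rw [hsum]; exact (hcn i).1) hx
      exact Subgroup.commutator_mem_commutator (hdiag ha hu) (hdiag ha' hv)
    · intro x hx
      have hsum' : -a + -a' = -b i := by rw [← hsum]; abel
      rw [← hsum'] at hx
      obtain ⟨u, hu, v, hv, rfl⟩ := exists_comm R hs htt hθ hp2 ha.neg.root ha'.neg.root
        (by rw [cpr_neg_left _ ha'.root.neg, cpr_neg_right cs h _ ha'.root, hc]; norm_num)
        (by
          rw [map_neg, cpr_neg_left _ (ha'.root.act w).neg, cpr_neg_right cs h _ (ha'.root.act w), neg_neg]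
          exact hc0)
        (by rw [map_neg]; exact fun h => hne (neg_injective h)) (by rw [hsum']; exact (hcn i).2) hx
      exact Subgroup.commutator_mem_commutator (hdiag ha.neg hu) (hdiag ha'.neg hv)
  have hXP' : ∀ i, AA X (b i) ≤ P := fun i => (hXP i).trans (Subgroup.commutator_le_self _)
  have hzP : z i0 ∈ P := hXP' i0 (hzA i0)
  have htz : t * z i0 = z i0 * t := (Subgroup.mem_centralizer_singleton_iff.1 (hPC hzP)).symm
  have hPp : ⁅P, P⁆ = P := by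
    refine le_antisymm (Subgroup.commutator_le_self _) ?_
    have h1 : PP cs h X t w (ψ i0) ≤ ⁅P, P⁆ := by
      refine (Subgroup.closure_le _).2 ?_
      rintro _ ⟨a, ha, u, hu, rfl⟩
      obtain ⟨v, hv, e⟩ := exists_inv R hs hθ hp2 (hz i0) htz ha hu
      rw [SetLike.mem_coe, e]
      exact Subgroup.commutator_mem_commutator hzP (hdiag ha hv)
    rwa [← hP] at h1
  have hPl := hPL P hPC hPp
  have key : ∀ L : Subgroup ↥(Subgroup.centralizer ({t} : Set Y)), IsComponent L →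
      ¬ (AA X (b i0)).subgroupOf (Subgroup.centralizer {t}) ≤ Subgroup.centralizer (L : Set _) := by
    intro L hL hcon1
    rw [le_cent_iff (le_trans (hXP' i0) hPC)] at hcon1
    have hzL := hcon1 (hzA i0)
    have hPL' : P ≤ Subgroup.centralizer
        ((L.map (Subgroup.centralizer ({t} : Set Y)).subtype : Subgroup Y) : Set Y) := by
      have h1 : PP cs h X t w (ψ i0) ≤ Subgroup.centralizer
          ((L.map (Subgroup.centralizer ({t} : Set Y)).subtype : Subgroup Y) : Set Y) := by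
        refine (Subgroup.closure_le _).2 ?_
        rintro _ ⟨a, ha, u, hu, rfl⟩
        obtain ⟨v, hv, e⟩ := exists_inv R hs hθ hp2 (hz i0) htz ha hu
        rw [SetLike.mem_coe, e, commutatorElement_def]
        obtain ⟨y, hy⟩ : ∃ y, y = v * (t * v * t⁻¹) := ⟨_, rfl⟩
        have hyP : y ∈ P := by rw [hy]; exact hdiag ha hv
        rw [← hy]
        have h2 := conj_mem_cent hPC hPl hL hyP (inv_mem hzL)
        have h3 : z i0 * y * (z i0)⁻¹ * y⁻¹ = z i0 * (y * (z i0)⁻¹ * y⁻¹) := by group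
        rw [h3]
        exact mul_mem hzL h2
      rwa [← hP] at h1
    refine comp_ne_bot hL ?_
    exact eq_bot_of_frame R hs hθ hp2 hG hTc hb hz hzA he heθ hee hbe hEE hab (comp_perfect hL)
      (Subgroup.map_subtype_le L) (fun i => (hXP' i).trans hPL')
  right
  obtain ⟨L, hL⟩ : ∃ L, L = L0.subgroupOf (Subgroup.centralizer {t}) := ⟨_, rfl⟩
  have hLm : L.map (Subgroup.centralizer ({t} : Set Y)).subtype = L0 := by rw [hL]; exact map_sub hL0
  rw [← hL] at hc0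
  obtain ⟨c0, hc1, hc2⟩ := hne
  refine ⟨AA X (b i0), z i0, ⟨hsl, hcc, sgn_ne_one R hp2 (hz i0) hc1 hc2⟩, le_trans (hXP' i0) hPC, ?_, ?_⟩
  · refine le_trans ?_ hPl
    intro x hx
    rw [Subgroup.mem_subgroupOf] at hx ⊢
    exact hXP' i0 hx
  · intro h1
    refine key L hc0 ?_
    rw [le_cent_iff (le_trans (hXP' i0) hPC), hLm]
    exact h1

end Main

end Cfsg.Agent.H73.OI
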