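import Mathlib
import Cfsg.Agent.H73.OI.GoodChev
import Cfsg.Agent.H73.OI.GoodMov
import Cfsg.Agent.H557.LrE7

/-!
# `F₄(q)`, `E₆(q)`, `E₇(q)`, `E₈(q)` : the involutions are good (S3325, helper73)

After `H557.LrFam`, `H557.LrE7`.
-/

set_option autoImplicit false
set_option linter.unusedSectionVars false
set_option maxHeartbeats 400000

namespace Cfsg.Agent.H73.OI

open CoxeterSystem Cfsg.Agent.ChevalleyStructure.CoxeterGeom Cfsg.Agent.Tits.Roots Cfsg.Agent.Tits.Core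
  Cfsg.Agent.Tits.RootComb Cfsg.Agent.Nodes.Reps Cfsg.Agent.Nodes.BNOf
  Cfsg.Agent.Nodes.RGDLib Cfsg.Agent.Nodes.Bruhat Cfsg.Agent.Nodes.Coroot Cfsg.Agent.KFacts.RgdSL
open Cfsg.Lie Cfsg.Agent.ChevalleyStructure Cfsg.Agent.ChevalleyStructure.CoxeterGeomTypes
  Cfsg.Agent.Nodes.RGDChev
open Cfsg.Agent.KFacts.RgdChevCoord (TT XX nc)
open Cfsg.Agent.H557.LrAbs Cfsg.Agent.H557.LrSgn Cfsg.Agent.H557.LrTor Cfsg.Agent.H557.LrOrb Cfsg.Agent.H557.LrIso
  Cfsg.Agent.H557.LrNF Cfsg.Agent.H557.LrMov Cfsg.Agent.H557.LrChev Cfsg.Agent.H557.LrRho Cfsg.Agent.H557.LrNon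
  Cfsg.Agent.H557.LrData Cfsg.Agent.H557.LrFam Cfsg.Agent.H557.LrE7
open Cfsg.Agent.GenExc (csv)
open Cfsg.Agent.GenExc.Chev (zS)
open Cfsg.Agent.H974.Exc (sym_E6 sym_E7 sym_E8 J_E6 J_E6' J_E7 J_E8 fix_of_id map_of_graph s6 wJ_E7 th7 pr7 sl_E7 cf
  isRoot_of cpr_of)
open Cfsg.Agent.UGT.U2.FOne

set_option backward.isDefEq.respectTransparency false

set_option maxRecDepth 20000

section Nontoral

variable {K : Type} [Field K] [Fintype K] (p : ℕ) [Fact p.Prime] [CharP K p] {W : Type*} [Group W] [Finite W]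
  (cs : CoxeterSystem CoxeterMatrix.E₇ W)

/-- **the nontoral involutions**, centralising the root group of the first fundamental root -/
theorem nontoral_good (hp2 : Odd p) (hZ : Subgroup.center ↥(chevE7.group K) = ⊥) {t : ↥(chevE7.group K)} (htt : t * t = 1)
    {w : W} (hw : ∀ v, rep cs isType_E7.isCartan w v = th7 v)
    (hθ : ∀ c, IsRoot cs isType_E7.isCartan c →
      cj t (XX chevE7 7 K c) = XX chevE7 7 K (rep cs isType_E7.isCartan w c))
    (h0 : Cn t (XX chevE7 7 K) (bb 0)) : GoodC p (Subgroup.centralizer {t}) := by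
  have R := rgd (K := K) isType_E7 cs p
  have hs := sl_E7 cs
  have hG1 := G1_eq_top (K := K) isType_E7 cs
  have hG := KFacts.RgdRigid.GG_eq_top (T := TT chevE7 K) hG1
  have h2 := (odd_card (F := K) hp2).2
  have hfin : Finite ↥(chevE7.group K) := inferInstance
  have hrp := rp_of_cj R hG hθ
  have hb : ∀ i, IsRoot cs isType_E7.isCartan (bb i) := fun i => isRoot_of isType_E7 cs (tab_bb i).1
  have hbθ : ∀ i, rep cs isType_E7.isCartan w (bb i) = bb i := fun i => by rw [hw, (tab_bb i).2]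
  have hrt : ∀ i, Rt cs isType_E7.isCartan p (TT chevE7 K) (XX chevE7 7 K) (bb i) (zS isType_E7 K (SS i))
      (csz AE (SS i)) := by
    intro i
    have h1 := rt_word isType_E7 cs (K := K) p hZ 0 (om i) (SS i) (tab_om i).2
    rwa [(tab_om i).1] at h1
  have hcp : ∀ {x y : Fin 7 → ℤ} {c : ℤ}, IsRoot cs isType_E7.isCartan y → cf AE x y = c →
      cpr cs isType_E7.isCartan x y = c := fun {x y c} hy h => cpr_of isType_E7 hs x hy h
  -- the root groups of the frame are centralised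
  have hstep : ∀ {a c d : Fin 7 → ℤ}, IsRoot cs isType_E7.isCartan a → IsRoot cs isType_E7.isCartan c → th7 c = c →
      cf AE c a = 1 → cf AE a (th7 a) = 0 → a + th7 a = c - d → Cn t (XX chevE7 7 K) c → Cn t (XX chevE7 7 K) d := by
    intro a c d ha hc hcθ h1 h3 h4 hcn
    have haθ := ha.act w
    rw [hw] at haθ
    have h5 := cn_step R hs htt hθ ha hc (by rw [hw, hcθ]) (by rw [hw]; exact hcp haθ h3) hcn
    rw [hw, hcp ha h1, one_smul, h4] at h5
    have : c - (c - d) = d := by abel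
    rwa [this] at h5
  have hcn : ∀ i, Cn t (XX chevE7 7 K) (bb i) ∧ Cn t (XX chevE7 7 K) (-bb i) := by
    have key : ∀ i, i ≠ 0 → Cn t (XX chevE7 7 K) (bb i) ∧ Cn t (XX chevE7 7 K) (-bb i) := by
      intro i hi
      obtain ⟨k1, k2, k3, k4, k5, k6, k7, k8⟩ := tab_cn i hi
      refine ⟨?_, ?_⟩
      · exact hstep (isRoot_of isType_E7 cs k2) (hb 0) (tab_bb 0).2 k4 k8 k6 h0
      · refine hstep (isRoot_of isType_E7 cs k1) (hb 0) (tab_bb 0).2 k3 k7 ?_ h0
        rw [k5, sub_neg_eq_add]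
    intro i
    by_cases hi : i = 0
    · subst hi
      refine ⟨h0, ?_⟩
      obtain ⟨k1, k2, k3, k4, k5, k6, k7, k8⟩ := tab_cn 1 (by decide)
      refine hstep (isRoot_of isType_E7 cs k1) (hb 1) (tab_bb 1).2 tab_cn0.1 k7 ?_ (key 1 (by decide)).1
      rw [tab_cn0.2, sub_neg_eq_add, add_comm]
    · exact key i hi
  have he : ∀ j : Fin 3, IsRoot cs isType_E7.isCartan (sr (jj j)) := fun j => isRoot_sr cs isType_E7.isCartan (jj j)
  have heθ : ∀ j : Fin 3, rep cs isType_E7.isCartan w (sr (jj j)) = -sr (jj j) := fun j => by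
    rw [hw, (tab_jj j).1]
  refine mov_good R hs htt hθ hp2 hG (Cfsg.Agent.GenExc.Chev.diag_comm isType_E7 K) (b := bb) (z := fun i => zS isType_E7 K (SS i))
    (ψ := fun i => csz AE (SS i)) (i0 := 0) (e := fun j => sr (jj j)) hb hcn (fun i => (hrt i).sgn)
    (fun i => (hrt i).sl.mem) (hrt 0).sl ?_ ?_ ?_ he heθ ?_ ?_ ?_ ?_
  · have h3 : (bb 0 : Fin 7 → ℤ) = sr 0 := (tab_om 0).1.symm
    rw [h3]
    exact rhoE7.norm_simple isType_E7 cs p hZ h2
  · exact ⟨_, isRoot_of isType_E7 cs (tab_ab 0).1, csz_ne (tab_ab 0).2.2.2.2.2.2.2.2.1⟩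
  · intro i
    obtain ⟨k1, k2, k3, k4, k5, k6, k7, k8, k9, k10⟩ := tab_ab i
    have r1 := isRoot_of isType_E7 cs k1
    have r2 := isRoot_of isType_E7 cs k2
    have r1' := r1.act w
    have r2' := r2.act w
    rw [hw] at r1' r2'
    refine ⟨aa i, ab i, ⟨r1, by rw [hw]; exact hcp r1' k7, csz_ne k9⟩, ⟨r2, by rw [hw]; exact hcp r2' k8, csz_ne k10⟩,
      k3, hcp r2 k4, ?_, ?_⟩
    · rw [hw, hcp r2' k5]
      norm_num
    · rw [hw]
      exact k6
  · intro j k hjk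
    exact hcp (he k) (tab_orth.1 j k hjk)
  · intro i j
    exact hcp (he j) (tab_orth.2 i j)
  · intro c hc hall
    obtain ⟨r, hr, rfl⟩ := (isRoot_iff isType_E7 cs c).1 hc
    refine tab_EE r (List.mem_range.2 hr) fun i => ?_
    have h3 := hall i
    rw [csz_eq_zero_iff, Int.even_iff] at h3
    exact h3
  · intro j
    obtain ⟨k, hk⟩ := (tab_jj j).2
    exact hab_of isType_E7 p cs hrp htt hk (heθ j)

/-- **the nontoral involutions** -/
theorem nontoral_good' (hp2 : Odd p) (hZ : Subgroup.center ↥(chevE7.group K) = ⊥) {t : ↥(chevE7.group K)} (htt : t * t = 1)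
    {w : W} (hw : ∀ v, rep cs isType_E7.isCartan w v = th7 v)
    (hθ : ∀ c, IsRoot cs isType_E7.isCartan c →
      cj t (XX chevE7 7 K c) = XX chevE7 7 K (rep cs isType_E7.isCartan w c)) :
    GoodC p (Subgroup.centralizer {t}) := by
  have R := rgd (K := K) isType_E7 cs p
  have hs := sl_E7 cs
  have hG1 := G1_eq_top (K := K) isType_E7 cs
  have hG := KFacts.RgdRigid.GG_eq_top (T := TT chevE7 K) hG1
  have hrp := rp_of_cj R hG hθ
  obtain ⟨k1, k2, k3, k4, k5⟩ := tab_w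
  have r0 := isRoot_sr cs isType_E7.isCartan 0
  have r2 := isRoot_sr cs isType_E7.isCartan 2
  have h3 : (bb 0 : Fin 7 → ℤ) = sr 0 := (tab_om 0).1.symm
  -- conjugation
  have hconj : ∀ {g : ↥(chevE7.group K)} {v : W}, Rp cs R.nsys v g →
      (∀ x, rep cs isType_E7.isCartan v (th7 x) = th7 (rep cs isType_E7.isCartan v x)) →
      ∀ {c : Fin 7 → ℤ}, IsRoot cs isType_E7.isCartan c → rep cs isType_E7.isCartan v c = sr 0 →
      Cn t (XX chevE7 7 K) c → GoodC p (Subgroup.centralizer {t}) := by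
    intro g v hg hv c hc hvc hcn
    obtain ⟨h4, h5⟩ := conj_step R hθ hg (fun x => by rw [hw, hw, hv]) hc hcn
    rw [hvc, ← h3] at h5
    refine GoodC.conj (g := g) (nontoral_good p cs hp2 hZ ?_ hw h4 h5)
    have : g * t * g⁻¹ * (g * t * g⁻¹) = g * (t * t) * g⁻¹ := by group
    rw [this, htt, mul_one, mul_inv_cancel]
  have hA : A2 cs isType_E7.isCartan (sr 0) (sr 2) := hs.a2 r0 r2 (cpr_of isType_E7 hs _ r2 k3)
  rcases cn_or_inv isType_E7 p cs hrp htt r0 (by rw [hw, k4]) with h4 | h4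
  · exact hconj (v := 1) rp_one (fun x => by rw [map_one, Module.End.one_apply, Module.End.one_apply]) r0
      (by rw [map_one, Module.End.one_apply]) h4
  rcases cn_or_inv isType_E7 p cs hrp htt r2 (by rw [hw, k5]) with h5 | h5
  · refine hconj ((rp_simple cs R.nsys 2).mul (rp_simple cs R.nsys 0)) (fun x => ?_) r2 ?_ h5
    · rw [rep_mul_apply, rep_mul_apply, th7_comm cs 0 (Or.inl rfl), th7_comm cs 2 (Or.inr rfl)]
    · rw [← k1, ← rep_word cs isType_E7.isCartan, wordProd_cons, wordProd_cons, wordProd_nil, mul_one]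
  · refine hconj (rp_simple cs R.nsys 2) (fun x => th7_comm cs 2 (Or.inr rfl) x) hA.rxy ?_ (cn_add_of_inv R hA h4 h5)
    have h6 := rep_word cs isType_E7.isCartan [2] (sr 0 + sr 2)
    rw [wordProd_cons, wordProd_nil, mul_one] at h6
    exact h6.trans k2

end Nontoral

/-- passing to a conjugate in the torus -/
theorem good_of_conj {Y : Type*} [Group Y] {T : Subgroup Y} {p : ℕ}
    (hT : ∀ t ∈ T, t * t = 1 → t ≠ 1 → GoodC p (Subgroup.centralizer {t})) {t g : Y} (ht : g * t * g⁻¹ ∈ T)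
    (htt : t * t = 1) (h1 : t ≠ 1) : GoodC p (Subgroup.centralizer {t}) := by
  refine GoodC.conj (g := g) (hT _ ht ?_ ?_)
  · have : g * t * g⁻¹ * (g * t * g⁻¹) = g * (t * t) * g⁻¹ := by group
    rw [this, htt, mul_one, mul_inv_cancel]
  · intro h
    apply h1
    have : t = g⁻¹ * (g * t * g⁻¹) * g := by group
    rw [this, h, mul_one, inv_mul_cancel]

variable (K : Type) [Field K] [Fintype K]

/-- **`F₄(q)`, `q` odd** -/
theorem good_F4 (ho : Odd (Fintype.card K)) {t : ↥(chevF4.group K)} (htt : t * t = 1) (h1 : t ≠ 1) :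
    ∃ p, Odd p ∧ GoodC p (Subgroup.centralizer {t}) := by
  obtain ⟨p, hpp, hpc, hp2⟩ := exists_char K ho
  have : Fact p.Prime := ⟨hpp⟩
  obtain ⟨g, hg⟩ := H557.ToralTypes.toral_F4 ho htt
  exact ⟨p, hp2, good_of_conj (fun t ht htt h1 => torus_F4_good p hp2 ht htt h1) hg htt h1⟩

/-- **`E₈(q)`, `q` odd** -/
theorem good_E8 (ho : Odd (Fintype.card K)) {t : ↥(chevE8.group K)} (htt : t * t = 1) (h1 : t ≠ 1) :
    ∃ p, Odd p ∧ GoodC p (Subgroup.centralizer {t}) := by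
  obtain ⟨p, hpp, hpc, hp2⟩ := exists_char K ho
  have : Fact p.Prime := ⟨hpp⟩
  obtain ⟨g, hg⟩ := H557.ToralTypes.toral_E8 ho htt
  exact ⟨p, hp2, good_of_conj (fun t ht htt h1 => torus_E8_good p hp2 ht htt h1) hg htt h1⟩

/-- **`E₆(q)`, `q` odd** -/
theorem good_E6 (ho : Odd (Fintype.card K)) {t : ↥(chevE6.group K)} (htt : t * t = 1) (h1 : t ≠ 1) :
    ∃ p, Odd p ∧ GoodC p (Subgroup.centralizer {t}) := by
  obtain ⟨p, hpp, hpc, hp2⟩ := exists_char K ho
  have : Fact p.Prime := ⟨hpp⟩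
  have hp2' : p ≠ 2 := by
    rintro rfl
    exact (by decide : ¬ Odd 2) hp2
  have hS : IsSimpleGroup ↥(Lie.chevE6.group K) ∧ ¬ IsMulCommutative ↥(Lie.chevE6.group K) := S1054.result _ (by simp)
  have hs := hS.1
  have hZ := center_eq_bot hS
  obtain ⟨cs, hcs⟩ : ∃ cs, cs = (CoxeterMatrix.E₆).toCoxeterSystem := ⟨_, rfl⟩
  have hW : Finite (CoxeterMatrix.E₆).Group := finite_W isType_E6 cs
  have R := rgd (K := K) isType_E6 cs p
  have hG := G1_eq_top (K := K) isType_E6 cs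
  have hGG := KFacts.RgdRigid.GG_eq_top (T := TT chevE6 K) hG
  obtain ⟨k, φ, σ, J, g, N⟩ := exists_nf_inner hp2' R hG hZ htt h1
  have hT : k⁻¹ * t * k ∈ TT chevE6 K := by
    rcases sym_E6 ⟨σ, σ, N.σσ, N.σσ⟩ (fun i j => FFour.sigma_matrix N.φ_simple i j) with hσ | hσ
    · have hσ' : ∀ i, σ i = i := hσ
      have hJ := J_E6 N hσ'
      exact mem_T_of R hGG fun c hc => fix_of_id N.nx hσ' hJ hc
    · exfalso
      have hσ' : σ = s6 := funext hσ
      have hJ := J_E6' N hσ'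
      have hA : ∀ i j, cartanOf chevE6 6 (σ i) (σ j) = cartanOf chevE6 6 i j := by
        rw [hσ']
        decide +kernel
      have hmap : ∀ c, IsRoot cs isType_E6.isCartan c → cj (k⁻¹ * t * k) (XX chevE6 6 K c) = XX chevE6 6 K (c ∘ σ) :=
        fun c hc => map_of_graph N.nx hA hJ hc
      have hroot : ∀ c, IsRoot cs isType_E6.isCartan c → IsRoot cs isType_E6.isCartan (c ∘ σ) := by
        rintro _ ⟨w, i, rfl⟩
        rw [← H974.Exc.rep_comp N.φ_simple N.σσ hA]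
        refine ⟨φ w, σ i, ?_⟩
        congr 1
        funext j
        by_cases hj : j = σ i
        · rw [hj, Function.comp_apply, N.σσ, sr_self, sr_self]
        · rw [Function.comp_apply, sr_ne hj, sr_ne]
          intro h2
          exact hj (by rw [← h2, N.σσ])
      have h6 := graph_trivial R hGG N.σσ hroot hmap 0
      rw [hσ'] at h6
      exact absurd h6 (by decide)
  have h4 : k⁻¹ * t * k = k⁻¹ * t * k⁻¹⁻¹ := by rw [inv_inv]
  rw [h4] at hT
  exact ⟨p, hp2, good_of_conj (fun t ht htt h1 => torus_E6_good p hp2 ht htt h1) hT htt h1⟩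

/-- **`E₇(q)`, `q` odd** -/
theorem good_E7 (ho : Odd (Fintype.card K)) {t : ↥(chevE7.group K)} (htt : t * t = 1) (h1 : t ≠ 1) :
    ∃ p, Odd p ∧ GoodC p (Subgroup.centralizer {t}) := by
  obtain ⟨p, hpp, hpc, hp2⟩ := exists_char K ho
  have : Fact p.Prime := ⟨hpp⟩
  have hp2' : p ≠ 2 := by
    rintro rfl
    exact (by decide : ¬ Odd 2) hp2
  have hS : IsSimpleGroup ↥(Lie.chevE7.group K) ∧ ¬ IsMulCommutative ↥(Lie.chevE7.group K) := S1054.result _ (by simp)
  have hs := hS.1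
  have hZ := center_eq_bot hS
  obtain ⟨cs, hcs⟩ : ∃ cs, cs = (CoxeterMatrix.E₇).toCoxeterSystem := ⟨_, rfl⟩
  have hW : Finite (CoxeterMatrix.E₇).Group := finite_W isType_E7 cs
  have R := rgd (K := K) isType_E7 cs p
  have hG := G1_eq_top (K := K) isType_E7 cs
  have hGG := KFacts.RgdRigid.GG_eq_top (T := TT chevE7 K) hG
  obtain ⟨k, φ, σ, J, g, N⟩ := exists_nf_inner hp2' R hG hZ htt h1
  have hσ : ∀ i, σ i = i := by
    intro i
    exact sym_E7 ⟨σ, σ, N.σσ, N.σσ⟩ (fun i j => FFour.sigma_matrix N.φ_simple i j) i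
  have h4 : k⁻¹ * t * k = k⁻¹ * t * k⁻¹⁻¹ := by rw [inv_inv]
  rcases J_E7 N hσ with hJ | hJ
  · have hT : k⁻¹ * t * k ∈ TT chevE7 K := mem_T_of R hGG fun c hc => fix_of_id N.nx hσ hJ hc
    rw [h4] at hT
    exact ⟨p, hp2, good_of_conj (fun t ht htt h1 => torus_E7_good p hp2 ht htt h1) hT htt h1⟩
  · have hw := wJ_E7 cs N.Jcomm hJ
    have h5 : GoodC p (Subgroup.centralizer {k⁻¹ * t * k}) := by
      refine nontoral_good' p cs hp2 hZ ?_ hw fun c hc => ?_
      · have : k⁻¹ * t * k * (k⁻¹ * t * k) = k⁻¹ * (t * t) * k := by group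
        rw [this, htt, mul_one, inv_mul_cancel]
      · have h6 := N.nx.xX_id hσ hc
        exact h6
    rw [h4] at h5
    exact ⟨p, hp2, h5.conj⟩

end Cfsg.Agent.H73.OI
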